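import Groth.Agent.CoverMap.Basic
import Groth.Agent.Assoc.Kernel
import Groth.Agent.Grpd.FlatComp
import Groth.Prelude.Def_AlgGrp
import Mathlib.AlgebraicGeometry.Morphisms.Immersion

/-! # Quotients of groups and the graph of an effective equivalence relation -/

universe u

open CategoryTheory CategoryTheory.Limits MonoidalCategory CartesianMonoidalCategory MonObj AlgebraicGeometry

namespace Groth.Agent.CoverMap

variable {S : Scheme.{u}}

lemma diag_left (Y : Over S) : (lift (𝟙 Y) (𝟙 Y)).left = pullback.diagonal Y.hom := by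
  apply pullback.hom_ext
  · exact (congrArg CommaMorphism.left (lift_fst (𝟙 Y) (𝟙 Y))).trans (pullback.diagonal_fst _).symm
  · exact (congrArg CommaMorphism.left (lift_snd (𝟙 Y) (𝟙 Y))).trans (pullback.diagonal_snd _).symm

variable {E X Y : Over S} {a b : E ⟶ X} {p : X ⟶ Y} (h : IsPullback a b p p)

include h in
/-- the graph of the equivalence relation is a base change of the diagonal -/
theorem isPullback_graph : IsPullback (a ≫ p) (lift a b) (lift (𝟙 Y) (𝟙 Y)) (p ⊗ₘ p) := by
  have hc : ∀ s : PullbackCone (lift (𝟙 Y) (𝟙 Y)) (p ⊗ₘ p),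
      s.fst = (s.snd ≫ fst X X) ≫ p ∧ s.fst = (s.snd ≫ snd X X) ≫ p := fun s =>
    ⟨by simpa using congr($(s.condition) ≫ fst Y Y), by simpa using congr($(s.condition) ≫ snd Y Y)⟩
  refine ⟨⟨?_⟩, ⟨PullbackCone.IsLimit.mk _
    (fun s => h.lift (s.snd ≫ fst X X) (s.snd ≫ snd X X) ((hc s).1.symm.trans (hc s).2))
    (fun s => ?_) (fun s => ?_) fun s m h1 h2 => ?_⟩⟩
  · apply CartesianMonoidalCategory.hom_ext <;> simp [h.w]
  · rw [h.lift_fst_assoc, ← (hc s).1]
  · apply CartesianMonoidalCategory.hom_ext <;> simp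
  · apply h.hom_ext
    · rw [h.lift_fst, ← h2, Category.assoc, lift_fst]
    · rw [h.lift_snd, ← h2, Category.assoc, lift_snd]

include h in
theorem isImmersion_graph : IsImmersion (lift a b).left := by
  have := (isPullback_graph h).map (Over.forget S)
  refine MorphismProperty.of_isPullback (P := @IsImmersion) this ?_
  change IsImmersion (lift (𝟙 Y) (𝟙 Y)).left
  rw [diag_left]
  infer_instance

include h in
theorem isClosedImmersion_graph [IsSeparated Y.hom] : IsClosedImmersion (lift a b).left := by
  have := (isPullback_graph h).map (Over.forget S)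
  refine MorphismProperty.of_isPullback (P := @IsClosedImmersion) this ?_
  change IsClosedImmersion (lift (𝟙 Y) (𝟙 Y)).left
  rw [diag_left]
  infer_instance

lemma covers_tensor (hp : Covers p.left) : Covers (p ⊗ₘ p).left := by
  rw [MonoidalCategory.tensorHom_def, Over.comp_left]
  exact (hp.of_isPullback (Assoc.isPullback_whiskerLeft p).flip).comp
    (hp.of_isPullback (Assoc.isPullback_whiskerRight p).flip)

include h in
theorem isSeparated_of_graph (hp : Covers p.left) (hv : IsClosedImmersion (lift a b).left) :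
    IsSeparated Y.hom := by
  refine ⟨?_⟩
  rw [← diag_left]
  exact (covers_tensor hp).descend @IsClosedImmersion
    ((isPullback_graph h).map (Over.forget S)) hv

section group

variable {G G' G'' : Over S} [GrpObj G] [GrpObj G'] {u : G' ⟶ G} [IsMonHom u] {π : G ⟶ G''}
  (hsq : IsPullback ((G ◁ u) ≫ μ[G]) (fst G G') π π)

include hsq in
omit [IsMonHom u] in
theorem isPullback_unit : IsPullback u (toUnit G') π (η[G] ≫ π) := by
  have hmul : (G ◁ u) ≫ μ[G] = fst G G' * (snd G G' ≫ u) := by
    rw [Hom.mul_def]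
    congr 1
  have hk : ∀ {T : Over S} (k : T ⟶ G ⊗ G'),
      k ≫ (G ◁ u) ≫ μ[G] = (k ≫ fst G G') * (k ≫ snd G G' ≫ u) := fun k => by rw [hmul, comp_mul]
  have h1 : ∀ {T : Over S} (x : T ⟶ G) (t : T ⟶ 𝟙_ (Over S)), x ≫ π = t ≫ η[G] ≫ π →
      x ≫ π = (1 : T ⟶ G) ≫ π := fun x t e => by
    rw [e, Hom.one_def, toUnit_unique t (toUnit _), Category.assoc]
  refine ⟨⟨?_⟩, ⟨PullbackCone.IsLimit.mk _
    (fun s => hsq.lift s.fst 1 (h1 _ _ s.condition) ≫ snd G G') (fun s => ?_)
    (fun s => toUnit_unique _ _) fun s m hm _ => ?_⟩⟩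
  · have := congr(lift (1 : G' ⟶ G) (𝟙 G') ≫ $(hsq.w))
    rw [← Category.assoc, hk, lift_fst, lift_snd_assoc, _root_.one_mul, Category.id_comp,
      lift_fst_assoc, Hom.one_def, Category.assoc] at this
    exact this
  · have e := hsq.lift_fst s.fst 1 (h1 _ _ s.condition)
    rw [hk, hsq.lift_snd, _root_.one_mul] at e
    rw [Category.assoc, e]
  · have e : lift 1 m = hsq.lift s.fst 1 (h1 _ _ s.condition) := by
      apply hsq.hom_ext
      · rw [hsq.lift_fst, hk, lift_fst, lift_snd_assoc, _root_.one_mul, hm]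
      · rw [hsq.lift_snd, lift_fst]
    rw [← e, lift_snd]

include hsq in
omit [IsMonHom u] in
theorem tfae (hp : Covers π.left) :
    (IsSeparated G''.hom ↔ IsClosedImmersion u.left) ∧
      (IsClosedImmersion u.left ↔ IsClosedImmersion (η[G] ≫ π).left) ∧ IsImmersion u.left := by
  have hu := (isPullback_unit hsq).map (Over.forget S)
  have h1 : IsSeparated G''.hom → IsClosedImmersion (η[G] ≫ π).left := fun _ => by
    have : IsClosedImmersion ((η[G] ≫ π).left ≫ G''.hom) := by
      rw [Over.w (η[G] ≫ π)]
      exact inferInstanceAs (IsClosedImmersion (𝟙 S))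
    exact IsClosedImmersion.of_comp (η[G] ≫ π).left G''.hom
  have h2 : IsClosedImmersion (η[G] ≫ π).left → IsClosedImmersion u.left := fun h =>
    MorphismProperty.of_isPullback (P := @IsClosedImmersion) hu.flip h
  have h3 : IsClosedImmersion u.left → IsSeparated G''.hom := fun h => by
    refine isSeparated_of_graph hsq hp ?_
    let e : G ⊗ G ≅ G ⊗ G :=
      { hom := lift μ[G] (fst G G)
        inv := lift (snd G G) ((snd G G)⁻¹ * fst G G)
        hom_inv_id := by
          apply CartesianMonoidalCategory.hom_ext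
          · simp
          · rw [Category.assoc, lift_snd, comp_mul, GrpObj.comp_inv, lift_fst, lift_snd,
              show (μ[G] : G ⊗ G ⟶ G) = fst G G * snd G G by
                rw [Hom.mul_def, lift_fst_snd, Category.id_comp], inv_mul_cancel_left]
            simp
        inv_hom_id := by
          apply CartesianMonoidalCategory.hom_ext
          · rw [Category.assoc, lift_fst, ← Hom.mul_def, mul_inv_cancel_left]
            simp
          · simp }
    have he : lift ((G ◁ u) ≫ μ[G]) (fst G G') = (G ◁ u) ≫ e.hom := by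
      apply CartesianMonoidalCategory.hom_ext <;> simp [e]
    rw [he, Over.comp_left]
    have : IsClosedImmersion (G ◁ u).left :=
      MorphismProperty.of_isPullback (P := @IsClosedImmersion) (Assoc.isPullback_whiskerLeft u) h
    have : IsIso e.hom.left := ((Over.forget S).mapIso e).isIso_hom
    infer_instance
  refine ⟨⟨fun h => h2 (h1 h), h3⟩, ⟨fun h => h1 (h3 h), h2⟩, ?_⟩
  have : IsImmersion ((η[G] ≫ π).left ≫ G''.hom) := by
    rw [Over.w (η[G] ≫ π)]
    exact inferInstanceAs (IsImmersion (𝟙 S))
  exact MorphismProperty.of_isPullback (P := @IsImmersion) hu.flip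
    (IsImmersion.of_comp (η[G] ≫ π).left G''.hom)

include hsq in
omit [IsMonHom u] in
theorem flat_iff (hp : Covers π.left) :
    (Flat G'.hom ↔ Flat π.left) ∧ (Flat π.left → (Flat G''.hom ↔ Flat G.hom)) := by
  have hfst : IsPullback (fst G G').left (snd G G').left G.hom G'.hom :=
    IsPullback.of_hasPullback G.hom G'.hom
  refine ⟨⟨fun h => ?_, fun h => ?_⟩, fun h => ⟨fun h' => ?_, fun h' => ?_⟩⟩
  · exact hp.descend @Flat (hsq.map (Over.forget S))
      (MorphismProperty.of_isPullback (P := @Flat) hfst.flip h)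
  · have : Flat (fst G G').left :=
      MorphismProperty.of_isPullback (P := @Flat) (hsq.map (Over.forget S)) h
    have h2 : IsPullback (lift (1 : G' ⟶ G) (𝟙 G')).left G'.hom (fst G G').left η[G].left := by
      suffices IsPullback (lift (1 : G' ⟶ G) (𝟙 G')) (toUnit G') (fst G G') η[G] from
        this.map (Over.forget S)
      refine ⟨⟨by rw [lift_fst, Hom.one_def]⟩, ⟨PullbackCone.IsLimit.mk _
        (fun s => s.fst ≫ snd G G') (fun s => ?_) (fun s => toUnit_unique _ _) fun s m hm _ => ?_⟩⟩
      · apply CartesianMonoidalCategory.hom_ext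
        · rw [Category.assoc, lift_fst, Hom.one_def, ← Category.assoc, s.condition,
            toUnit_unique s.snd ((s.fst ≫ snd G G') ≫ toUnit _)]
        · simp
      · rw [← hm, Category.assoc, lift_snd, Category.comp_id]
    exact MorphismProperty.of_isPullback (P := @Flat) h2 this
  · rw [← Over.w π]; infer_instance
  · have := hp.surjective
    have : Flat (π.left ≫ G''.hom) := by rw [Over.w]; exact h'
    exact GrpdLib.flat_of_flat_comp π.left G''.hom

theorem isReduced_of_covers {X Y : Scheme.{u}} {f : X ⟶ Y}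
    (h : ∃ (Z : Scheme.{u}) (q : Z ⟶ Y) (r : Z ⟶ X), r ≫ f = q ∧ Surjective q ∧ Flat q)
    [IsReduced X] : IsReduced Y := by
  obtain ⟨Z, q, r, rfl, _, _⟩ := h
  have : ∀ y : Y, _root_.IsReduced (Y.presheaf.stalk y) := fun y => by
    obtain ⟨z, rfl⟩ := (r ≫ f).surjective y
    algebraize [((r ≫ f).stalkMap z).hom]
    have : Module.FaithfullyFlat (Y.presheaf.stalk ((r ≫ f) z)) (Z.presheaf.stalk z) :=
      @Module.FaithfullyFlat.of_flat_of_isLocalHom _ _ _ _ _ _ _
        (Flat.stalkMap (r ≫ f) z) ((r ≫ f).toLRSHom.prop z)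
    have hinj : Function.Injective ((r ≫ f).stalkMap z).hom := ‹RingHom.FaithfullyFlat _›.injective
    rw [Scheme.Hom.stalkMap_comp] at hinj
    exact isReduced_of_injective (f.stalkMap (r z)).hom
      (Function.Injective.of_comp (f := (r.stalkMap z).hom) hinj)
  exact isReduced_of_isReduced_stalk Y

end group

end Groth.Agent.CoverMap
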