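import Groth.Agent.CoverMap.Quot

/-! # The group structure on the quotient by a normal subgroup -/

universe u

open CategoryTheory CategoryTheory.Limits MonoidalCategory CartesianMonoidalCategory MonObj AlgebraicGeometry

namespace Groth.Agent.CoverMap

variable {S : Scheme.{u}}

lemma epi_over {A B : Over S} {f : A ⟶ B} (hf : Covers f.left) : Epi f :=
  ⟨fun g g' h => by
    have := hf.epi
    ext1
    rw [← cancel_epi f.left, ← Over.comp_left, h, Over.comp_left]⟩

lemma covers_tensorHom {A B A' B' : Over S} {f : A ⟶ B} {g : A' ⟶ B'} (hf : Covers f.left)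
    (hg : Covers g.left) : Covers (f ⊗ₘ g).left := by
  rw [MonoidalCategory.tensorHom_def, Over.comp_left]
  exact (hg.of_isPullback (Assoc.isPullback_whiskerLeft g).flip).comp
    (hf.of_isPullback (Assoc.isPullback_whiskerRight f).flip)

variable {G G' Q : Over S} [hG : GrpObj G] [GrpObj G'] {u : G' ⟶ G}

lemma monObj_mul_eq {T : Over S} (k : T ⟶ G ⊗ G) :
    k ≫ μ[G] = (k ≫ fst G G) * (k ≫ snd G G) := by
  rw [Hom.mul_def, ← comp_lift, lift_fst_snd, Category.comp_id]

lemma monObj_whisker_eq {T : Over S} (k : T ⟶ G ⊗ G') :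
    k ≫ (G ◁ u) ≫ μ[G] = (k ≫ fst G G') * (k ≫ snd G G' ≫ u) := by
  rw [← Category.assoc, monObj_mul_eq]
  simp

variable {p : G ⟶ Q} (hsq : IsPullback ((G ◁ u) ≫ μ[G]) (fst G G') p p)
  (hp : Covers p.left) (hn : AlgGrp.IsNormalHom u)

include hsq in
lemma exists_of_eq {T : Over S} (x y : T ⟶ G) (h : x ≫ p = y ≫ p) :
    ∃ n : T ⟶ G', x = y * (n ≫ u) := by
  refine ⟨hsq.lift x y h ≫ snd G G', ?_⟩
  have e := hsq.lift_fst x y h
  rw [monObj_whisker_eq, hsq.lift_snd] at e
  rw [Category.assoc, e]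

include hsq in
lemma comp_mul_right {T : Over S} (y : T ⟶ G) (n : T ⟶ G') : (y * (n ≫ u)) ≫ p = y ≫ p := by
  have e : lift y n ≫ (G ◁ u) ≫ μ[G] = y * (n ≫ u) := by
    rw [monObj_whisker_eq, lift_fst, lift_snd_assoc]
  rw [← e, Category.assoc, hsq.w, lift_fst_assoc]

include hsq hp hn in
theorem exists_grpObj :
    ∃ s : GrpObj Q, @IsMonHom (Over S) _ _ G Q hG.toMonObj s.toMonObj p ∧
      ∀ m : Q ⊗ Q ⟶ Q, (p ⊗ₘ p) ≫ m = μ[G] ≫ p → m = s.mul := by
  have hpp : Covers (p ⊗ₘ p).left := covers_tensorHom hp hp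
  have := epi_over hp
  have := epi_over hpp
  have : Epi (((p ⊗ₘ p) ⊗ₘ p)) := epi_over (covers_tensorHom hpp hp)
  obtain ⟨m, hm, hmu⟩ := existsUnique_fac hpp (μ[G] ≫ p) fun T x y h => by
    have e1 : (x ≫ fst G G) ≫ p = (y ≫ fst G G) ≫ p := by simpa using congr($h ≫ fst Q Q)
    have e2 : (x ≫ snd G G) ≫ p = (y ≫ snd G G) ≫ p := by simpa using congr($h ≫ snd Q Q)
    obtain ⟨n₁, h₁⟩ := exists_of_eq hsq _ _ e1
    obtain ⟨n₂, h₂⟩ := exists_of_eq hsq _ _ e2
    obtain ⟨n', hn'⟩ := hn T (y ≫ snd G G)⁻¹ n₁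
    rw [inv_inv] at hn'
    rw [← Category.assoc, ← Category.assoc, monObj_mul_eq, monObj_mul_eq, h₁, h₂,
      show y ≫ fst G G * (n₁ ≫ u) * (y ≫ snd G G * (n₂ ≫ u)) =
        (y ≫ fst G G * y ≫ snd G G) * ((y ≫ snd G G)⁻¹ * (n₁ ≫ u) * (y ≫ snd G G)) * (n₂ ≫ u) by
          group, hn', comp_mul_right hsq, comp_mul_right hsq]
  obtain ⟨i, hi, -⟩ := existsUnique_fac hp (GrpObj.inv (X := G) ≫ p) fun T x y h => by
    obtain ⟨n, h₁⟩ := exists_of_eq hsq _ _ h
    obtain ⟨n', hn'⟩ := hn T y n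
    rw [← Category.assoc, ← Category.assoc, ← Hom.inv_def, ← Hom.inv_def, h₁,
      show y⁻¹ = (y * (n ≫ u))⁻¹ * (y * (n ≫ u) * y⁻¹) by group, hn', comp_mul_right hsq]
  have hpm : ∀ {T : Over S} (x y : T ⟶ G), lift (x ≫ p) (y ≫ p) ≫ m = (x * y) ≫ p := fun x y => by
    rw [← lift_map, Category.assoc, hm, Hom.mul_def, Category.assoc]
  have hone : ∀ (T : Over S), toUnit T ≫ η[G] ≫ p = (1 : T ⟶ G) ≫ p := fun T => by
    rw [Hom.one_def, Category.assoc]
  let s : GrpObj Q :=
    { one := η[G] ≫ p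
      mul := m
      one_mul := by
        have : Epi ((𝟙_ (Over S)) ◁ p) :=
          epi_over (hp.of_isPullback (Assoc.isPullback_whiskerLeft p).flip)
        rw [← cancel_epi ((𝟙_ (Over S)) ◁ p)]
        have e : ((𝟙_ (Over S)) ◁ p) ≫ ((η[G] ≫ p) ▷ Q) =
            lift ((1 : _ ⟶ G) ≫ p) (snd (𝟙_ (Over S)) G ≫ p) := by
          apply CartesianMonoidalCategory.hom_ext
          · rw [lift_fst, ← hone, ← toUnit_unique (fst (𝟙_ (Over S)) G) (toUnit _), Category.assoc,
              whiskerRight_fst, ← Category.assoc, whiskerLeft_fst]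
          · rw [lift_snd, Category.assoc, whiskerRight_snd, whiskerLeft_snd]
        rw [← Category.assoc, e, hpm, _root_.one_mul, leftUnitor_hom, whiskerLeft_snd]
      mul_one := by
        have : Epi (p ▷ (𝟙_ (Over S))) :=
          epi_over (hp.of_isPullback (Assoc.isPullback_whiskerRight p).flip)
        rw [← cancel_epi (p ▷ (𝟙_ (Over S)))]
        have e : (p ▷ (𝟙_ (Over S))) ≫ (Q ◁ (η[G] ≫ p)) =
            lift (fst G (𝟙_ (Over S)) ≫ p) ((1 : _ ⟶ G) ≫ p) := by
          apply CartesianMonoidalCategory.hom_ext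
          · rw [lift_fst, Category.assoc, whiskerLeft_fst, whiskerRight_fst]
          · rw [lift_snd, ← hone, ← toUnit_unique (snd G (𝟙_ (Over S))) (toUnit _), Category.assoc,
              whiskerLeft_snd, ← Category.assoc, whiskerRight_snd]
        rw [← Category.assoc, e, hpm, _root_.mul_one, rightUnitor_hom, whiskerRight_fst]
      mul_assoc := by
        rw [← cancel_epi ((p ⊗ₘ p) ⊗ₘ p)]
        have e1 : ((p ⊗ₘ p) ⊗ₘ p) ≫ (m ▷ Q) =
            lift (((fst (G ⊗ G) G ≫ fst G G) * (fst (G ⊗ G) G ≫ snd G G)) ≫ p)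
              (snd (G ⊗ G) G ≫ p) := by
          apply CartesianMonoidalCategory.hom_ext
          · rw [← monObj_mul_eq, lift_fst, Category.assoc, whiskerRight_fst, ← Category.assoc,
              tensorHom_fst, Category.assoc, hm, ← Category.assoc]
          · simp
        have e2 : ((p ⊗ₘ p) ⊗ₘ p) ≫ (α_ Q Q Q).hom ≫ (Q ◁ m) =
            lift ((fst (G ⊗ G) G ≫ fst G G) ≫ p)
              (((fst (G ⊗ G) G ≫ snd G G) * snd (G ⊗ G) G) ≫ p) := by
          apply CartesianMonoidalCategory.hom_ext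
          · simp
          · rw [← hpm, lift_snd, Category.assoc, Category.assoc, whiskerLeft_snd, ← Category.assoc,
              ← Category.assoc]
            congr 1
            apply CartesianMonoidalCategory.hom_ext <;> simp
        rw [← Category.assoc _ (m ▷ Q) m, e1, ← Category.assoc (α_ Q Q Q).hom, ← Category.assoc ((p ⊗ₘ p) ⊗ₘ p), e2, hpm, hpm, _root_.mul_assoc]
      inv := i
      left_inv := by
        have e : p ≫ lift i (𝟙 Q) = lift ((𝟙 G)⁻¹ ≫ p) (𝟙 G ≫ p) := by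
          rw [comp_lift, hi, Hom.inv_def, Category.comp_id, Category.id_comp, Category.id_comp]
        rw [← cancel_epi p, ← Category.assoc p, e, hpm, inv_mul_cancel, ← Category.assoc p,
          toUnit_unique (p ≫ toUnit Q) (toUnit _), hone]
      right_inv := by
        have e : p ≫ lift (𝟙 Q) i = lift (𝟙 G ≫ p) ((𝟙 G)⁻¹ ≫ p) := by
          rw [comp_lift, hi, Hom.inv_def, Category.comp_id, Category.id_comp, Category.id_comp]
        rw [← cancel_epi p, ← Category.assoc p, e, hpm, mul_inv_cancel, ← Category.assoc p,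
          toUnit_unique (p ≫ toUnit Q) (toUnit _), hone] }
  refine ⟨s, ⟨rfl, hm.symm⟩, fun m' hm' => hmu m' hm'⟩

include hsq hp hn in
theorem existsUnique_grpObj :
    ∃! s : GrpObj Q, @IsMonHom (Over S) _ _ G Q hG.toMonObj s.toMonObj p := by
  obtain ⟨s, hs, hu⟩ := exists_grpObj hsq hp hn
  refine ⟨s, hs, fun s' hs' => GrpObj.ext _ _ ?_⟩
  exact MonObj.ext _ _ (hu _ hs'.mul_hom.symm)

end Groth.Agent.CoverMap
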