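import Groth.Agent.Torsor.Desc
import Groth.Agent.FpqcDescent.Sep
import Groth.Agent.HTopV.Fpqc
import Mathlib.CategoryTheory.Limits.Constructions.Over.Connected

/-! # Morphisms having sections locally for the fpqc topology -/

universe u

open CategoryTheory CategoryTheory.Limits MonoidalCategory CartesianMonoidalCategory MonObj AlgebraicGeometry

namespace Groth.Agent.CoverMap

variable {X Y : Scheme.{u}}

/-- `f` has a section over an fpqc cover. -/
def Covers (f : X ⟶ Y) : Prop :=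
  ∃ (Z : Scheme.{u}) (q : Z ⟶ Y) (r : Z ⟶ X),
    Presieve.singleton q ∈ Scheme.fpqcPrecoverage Y ∧ r ≫ f = q

theorem covers_of_hcov {f : X ⟶ Y}
    (h : ∃ (Z : Scheme.{u}) (q : Z ⟶ Y) (r : Z ⟶ X), r ≫ f = q ∧ Surjective q ∧ Flat q ∧
      ∀ V : Y.Opens, IsAffineOpen V →
        ∃ W : Z.Opens, IsCompact (W : Set Z) ∧ q.base '' (W : Set Z) = (V : Set Y)) :
    Covers f := by
  obtain ⟨Z, q, r, hr, hs, hf, hqc⟩ := h
  refine ⟨Z, q, r, ?_, hr⟩
  rw [← PreZeroHypercover.presieve₀_singleton.{_, _, u}]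
  refine (HTopV.mem_fpqc_iff _).2 ⟨⟨fun {V} hV => ?_⟩, fun y => ⟨PUnit.unit, hs.surj y⟩, fun _ => hf⟩
  obtain ⟨W, hW, hWV⟩ := hqc V hV
  exact IsCompactOpenCovered.iff_of_unique.mpr ⟨W, hW, hWV⟩

theorem Covers.surjective {f : X ⟶ Y} (h : Covers f) : Surjective f := by
  obtain ⟨Z, q, r, hq, rfl⟩ := h
  rw [← PreZeroHypercover.presieve₀_singleton.{_, _, u}] at hq
  refine ⟨fun y => ?_⟩
  obtain ⟨_, z, hz⟩ := ((HTopV.mem_fpqc_iff _).1 hq).2.1 y
  exact ⟨r z, hz⟩

theorem singleton_comp_mem {Z W : Scheme.{u}} {q : Z ⟶ Y} {q' : W ⟶ Z}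
    (hq : Presieve.singleton q ∈ Scheme.fpqcPrecoverage Y)
    (hq' : Presieve.singleton q' ∈ Scheme.fpqcPrecoverage Z) :
    Presieve.singleton (q' ≫ q) ∈ Scheme.fpqcPrecoverage Y := by
  have h := Precoverage.comp_mem_coverings (J := Scheme.fpqcPrecoverage) (fun _ : PUnit.{u + 1} => q)
    (SchDescent.mem_fpqc_singleton hq) (fun _ (_ : PUnit.{u + 1}) => q')
    (fun _ => SchDescent.mem_fpqc_singleton hq')
  convert h using 1
  refine le_antisymm ?_ ?_
  · rintro _ _ ⟨⟩; exact ⟨⟨⟨⟩, ⟨⟩⟩⟩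
  · rintro _ _ ⟨_⟩; exact ⟨⟩

theorem Covers.comp {W : Scheme.{u}} {f : X ⟶ Y} {g : W ⟶ X} (hf : Covers f) (hg : Covers g) :
    Covers (g ≫ f) := by
  obtain ⟨Z, q, r, hq, hr⟩ := hf
  obtain ⟨Z', q', r', hq', hr'⟩ := hg
  have h1 : Presieve.singleton (pullback.fst r q') ∈ Scheme.fpqcPrecoverage Z :=
    SchDescent.singleton_pullback_mem hq' (IsPullback.of_hasPullback r q')
  refine ⟨_, pullback.fst r q' ≫ q, pullback.snd r q' ≫ r', singleton_comp_mem hq h1, ?_⟩
  rw [Category.assoc, reassoc_of% hr', ← reassoc_of% (pullback.condition (f := r) (g := q')), hr]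

theorem Covers.of_isPullback {X' Y' : Scheme.{u}} {f : X ⟶ Y} (hf : Covers f) {f' : X' ⟶ Y'}
    {a : X' ⟶ X} {b : Y' ⟶ Y} (h : IsPullback f' a b f) : Covers f' := by
  obtain ⟨Z, q, r, hq, hr⟩ := hf
  refine ⟨pullback b q, pullback.fst b q, h.lift (pullback.fst b q) (pullback.snd b q ≫ r)
    (by rw [Category.assoc, hr, pullback.condition]), ?_, h.lift_fst _ _ _⟩
  exact SchDescent.singleton_pullback_mem hq (IsPullback.of_hasPullback b q)

theorem Covers.epi {f : X ⟶ Y} (hf : Covers f) : Epi f := by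
  obtain ⟨Z, q, r, hq, rfl⟩ := hf
  have := SchDescent.epi_of_mem hq
  exact epi_of_epi r f

/-- descent of a property through a covering morphism -/
theorem Covers.descend {f : X ⟶ Y} (hf : Covers f) (P : MorphismProperty Scheme.{u})
    [IsZariskiLocalAtTarget P] [P.IsStableUnderBaseChange]
    [P.DescendsAlong (@Surjective ⊓ @Flat ⊓ @QuasiCompact)]
    {A A' : Scheme.{u}} {g : A ⟶ Y} {g' : A' ⟶ X} {a : A' ⟶ A} (h : IsPullback a g' g f)
    (hg' : P g') : P g := by
  obtain ⟨Z, q, r, hq, hr⟩ := hf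
  refine FpqcDescent.of_fpqcPrecoverage P g hq ?_
  rintro _ _ ⟨⟩
  have e := (IsPullback.of_hasPullback g' r).paste_horiz h
  rw [hr] at e
  rw [← e.isoPullback_inv_snd, P.cancel_left_of_respectsIso]
  exact P.pullback_snd _ _ hg'

variable {S : Scheme.{u}}

/-- a map out of `A` constant on the fibres of a covering `f : A ⟶ B` descends -/
theorem existsUnique_fac {A B W : Over S} {f : A ⟶ B} (hf : Covers f.left) (c : A ⟶ W)
    (h : ∀ (T : Over S) (x y : T ⟶ A), x ≫ f = y ≫ f → x ≫ c = y ≫ c) :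
    ∃! d : B ⟶ W, f ≫ d = c := by
  have := hf.epi
  obtain ⟨Z, q, r, hq, hr⟩ := hf
  have key : ∀ {T : Scheme.{u}} (a b : T ⟶ A.left), a ≫ f.left = b ≫ f.left →
      a ≫ c.left = b ≫ c.left := by
    intro T a b hab
    let T' : Over S := Over.mk (a ≫ A.hom)
    let x : T' ⟶ A := Over.homMk a rfl
    let y : T' ⟶ A := Over.homMk b (by
      change b ≫ A.hom = a ≫ A.hom
      rw [← Over.w f, reassoc_of% hab])
    exact congrArg CommaMorphism.left (h T' x y (Over.OverMorphism.ext hab))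
  obtain ⟨d, hd, -⟩ := SchDescent.existsUnique_glue_singleton hq (r ≫ c.left) (by
    rw [← Category.assoc, ← Category.assoc]
    refine key _ _ ?_
    rw [Category.assoc, Category.assoc, hr, pullback.condition])
  have hfd : f.left ≫ d = c.left := by
    have hm := SchDescent.singleton_pullback_mem hq (IsPullback.of_hasPullback f.left q)
    have := SchDescent.epi_of_mem hm
    rw [← cancel_epi (pullback.fst f.left q), pullback.condition_assoc, hd, ← Category.assoc]
    exact key _ _ (by rw [Category.assoc, hr, pullback.condition])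
  refine ⟨Over.homMk d (by rw [← cancel_epi f.left, reassoc_of% hfd, Over.w c, Over.w f]),
    Over.OverMorphism.ext hfd, fun d' hd' => ?_⟩
  apply Over.OverMorphism.ext
  change d'.left = d
  rw [← cancel_epi f.left, hfd, ← hd']
  rfl

end Groth.Agent.CoverMap
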